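import Cfsg.Agent.Lib.Schur.TailsCert

/-!
# Multiplier certificates for the third Janko group

Machine-generated words in the four involutions and certificates for the Sylow subgroups at 2 and 3.
-/

set_option autoImplicit false
set_option maxRecDepth 100000

namespace CfsgLib.Schur.Sporadic.JThree

/-- Words for the generators of the Sylow 2-subgroup. -/
def kw2 : List (List ℕ) :=
  [[1, 2, 1, 3, 2, 1, 0, 1, 3, 1, 0, 1, 0, 1, 2, 3, 1, 0, 2, 1, 3, 1],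
    [3],
    [2],
    [1, 0, 1, 0, 2, 1, 0, 1, 0, 1, 0, 1, 0, 2, 1, 0, 1, 3],
    [1, 2, 1, 0, 1, 2, 1, 0, 1, 0, 1, 2, 1, 0, 1, 2, 1, 2],
    [3, 2, 1, 2, 0, 1, 3, 1, 0, 2, 1, 3, 1, 0, 2, 1, 3, 1, 0, 2, 1],
    [0]]

/-- Words for the fusing elements. -/
def gw2 : List (List ℕ) :=
  [[1, 0, 1, 2, 1, 0, 1, 0, 1, 0, 2, 1],
    [1, 0, 1, 0, 2, 1, 0, 1]]

/-- The elements of the subgroup as words. -/
def words2 : List (List ℕ) :=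
  [[6],
    [],
    [2, 6],
    [1, 6],
    [2],
    [1],
    [1, 2, 6],
    [1, 2],
    [4],
    [2, 4, 6],
    [1, 3, 4],
    [0, 1, 2, 4, 5],
    [4, 6],
    [2, 4],
    [1, 4],
    [1, 2, 4, 6],
    [5, 6],
    [1, 3, 4, 6],
    [1, 2, 3, 4],
    [3, 4],
    [1, 2, 3, 4, 5],
    [0, 1, 2, 4, 5, 6],
    [0, 1, 6],
    [0, 2, 3, 4, 6],
    [1, 4, 6],
    [1, 3, 5],
    [1, 2, 4],
    [1, 3, 4, 5, 6],
    [5],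
    [2, 5, 6],
    [1, 5, 6],
    [0, 5],
    [1, 2, 3, 4, 6],
    [3, 4, 6],
    [1, 2, 3, 6],
    [2, 3, 4],
    [1, 2, 3, 4, 5, 6],
    [1, 3, 4, 5],
    [2, 3, 4, 5],
    [0, 1],
    [0, 2, 3, 4],
    [0, 3],
    [1, 3, 5, 6],
    [1, 2, 3, 5],
    [3, 5],
    [3, 4, 5, 6],
    [0, 1, 2, 5, 6],
    [2, 5],
    [1, 5],
    [1, 2, 5, 6],
    [0, 5, 6],
    [0, 2, 4, 5],
    [0, 1, 3, 5],
    [2, 3, 6],
    [2, 3, 4, 6],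
    [1, 2, 3],
    [1, 3, 6],
    [2, 3, 4, 5, 6],
    [3, 4, 5],
    [0, 3, 6],
    [1, 2, 3, 5, 6],
    [3, 5, 6],
    [2, 3, 5],
    [0, 1, 4, 6],
    [0, 1, 2, 5],
    [0, 2, 3],
    [1, 2, 5],
    [0, 2, 4, 5, 6],
    [0, 1, 3, 5, 6],
    [0, 1, 2, 3, 4],
    [2, 3],
    [3, 6],
    [1, 3],
    [0, 2, 6],
    [0, 1, 2, 6],
    [0, 1, 2, 3, 4, 5, 6],
    [4, 5],
    [2, 3, 5, 6],
    [0, 1, 4],
    [0, 3, 4],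
    [0, 2, 3, 6],
    [0, 1, 2, 3, 4, 6],
    [0, 4, 5],
    [0, 2, 4],
    [3],
    [0, 1, 2, 3, 6],
    [2, 4, 5, 6],
    [0, 2],
    [0, 4],
    [0, 1, 2, 3, 5, 6],
    [0, 2, 5, 6],
    [0, 1, 3, 6],
    [0, 4, 5, 6],
    [0, 1, 2],
    [0, 1, 4, 5, 6],
    [0, 2, 3, 5],
    [0, 2, 4, 6],
    [0, 1, 2, 3, 4, 5],
    [4, 5, 6],
    [2, 4, 5],
    [1, 4, 5],
    [0, 3, 4, 6],
    [0, 1, 3, 4, 5],
    [0, 6],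
    [0, 3, 4, 5, 6],
    [0],
    [0, 1, 2, 3],
    [1, 2, 4, 5, 6],
    [0, 1, 2, 3, 5],
    [0, 4, 6],
    [0, 1, 3, 4],
    [0, 2, 5],
    [0, 1, 3],
    [0, 1, 3, 4, 5, 6],
    [0, 1, 4, 5],
    [0, 2, 3, 5, 6],
    [0, 3, 4, 5],
    [1, 4, 5, 6],
    [1, 2, 4, 5],
    [0, 3, 5],
    [0, 3, 5, 6],
    [0, 1, 3, 4, 6],
    [0, 1, 2, 4, 6],
    [0, 1, 5],
    [0, 1, 5, 6],
    [0, 1, 2, 4],
    [0, 2, 3, 4, 5, 6],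
    [0, 2, 3, 4, 5]]

/-- The elements of the inner subgroup as words. -/
def inner2 : List (List ℕ) :=
  [[6],
    [],
    [4],
    [4, 6],
    [5, 6],
    [3, 4],
    [5],
    [3, 4, 6],
    [3, 5],
    [3, 4, 5, 6],
    [3, 4, 5],
    [3, 5, 6],
    [3, 6],
    [4, 5],
    [3],
    [4, 5, 6]]

/-- The certificate at 2. -/
def cert2 : CfsgLib.Schur.Tails.Cert where
  r := 7
  a := 3
  p := 2
  fuel := 29
  width := 6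
  rules := [([0, 0], []),
      ([1, 1], []),
      ([2, 2], []),
      ([3, 3], [6]),
      ([4, 4], [6]),
      ([5, 5], []),
      ([6, 6], []),
      ([1, 0], [0, 1, 3]),
      ([2, 0], [0, 2, 4]),
      ([2, 1], [1, 2]),
      ([3, 0], [0, 3, 6]),
      ([3, 1], [1, 3, 6]),
      ([3, 2], [2, 3, 5]),
      ([4, 0], [0, 4, 6]),
      ([4, 1], [1, 4, 5, 6]),
      ([4, 2], [2, 4, 6]),
      ([4, 3], [3, 4, 6]),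
      ([5, 0], [0, 5, 6]),
      ([5, 1], [1, 5]),
      ([5, 2], [2, 5]),
      ([5, 3], [3, 5]),
      ([5, 4], [4, 5]),
      ([6, 0], [0, 6]),
      ([6, 1], [1, 6]),
      ([6, 2], [2, 6]),
      ([6, 3], [3, 6]),
      ([6, 4], [4, 6]),
      ([6, 5], [5, 6])]
  ix := [[0, 0, 0, 0, 0, 0, 0], [7, 1, 0, 0, 0, 0, 0], [8, 9, 2, 0, 0, 0, 0], [10, 11, 12, 3, 0, 0, 0], [13, 14, 15, 16, 4, 0, 0], [17, 18, 19, 20, 21, 5, 0], [22, 23, 24, 25, 26, 27, 6]]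
  ovl := [([1], 7, []),
      ([1], 0, []),
      ([2], 7, []),
      ([3], 7, []),
      ([4], 7, []),
      ([5], 7, []),
      ([6], 7, []),
      ([2], 8, []),
      ([2], 0, []),
      ([3], 8, []),
      ([4], 8, []),
      ([5], 8, []),
      ([6], 8, []),
      ([3], 9, []),
      ([4], 9, []),
      ([3], 10, []),
      ([4], 10, []),
      ([5], 10, []),
      ([3], 12, [])]
  fus := [⟨[[1], [2], [3], [4], [5], [6]], [[1], [2, 6], [2, 3, 4, 6], [1, 2, 3], [5, 6], [5]], [([2, 0], [0, 2, 5]), ([3, 0], [0, 3, 4, 5]), ([2, 1], [1, 2, 4]), ([3, 1], [1, 3, 5])]⟩,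
      ⟨[[1, 3], [2, 4], [5], [6]], [[6], [2, 4], [1, 2, 3, 4, 6], [1, 3]], [([1, 0], [0, 1])]⟩]
  eqs := [[(-1, 7), (1, 1), (-1, 7), (-1, 11), (-1, 1), (-1, 25), (-1, 3), (-1, 6)],
      [(-1, 0), (1, 7), (1, 10), (1, 7), (1, 0), (1, 3), (1, 6)],
      [(-1, 7), (1, 9), (1, 8), (1, 7), (1, 12), (1, 21), (-1, 8), (-1, 14), (-1, 9), (-1, 25), (-1, 20), (-1, 16), (-1, 27), (-1, 6)],
      [(-1, 7), (1, 11), (1, 22), (1, 10), (1, 7), (1, 3), (1, 6), (-1, 10), (-1, 23), (-1, 11), (-1, 6), (-1, 3)],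
      [(-1, 7), (1, 14), (1, 22), (1, 17), (1, 13), (1, 7), (1, 27), (1, 6), (-1, 13), (-1, 23), (-1, 14), (-1, 6), (-1, 20), (-1, 16), (-1, 27)],
      [(-1, 7), (1, 18), (1, 17), (1, 7), (-1, 17), (-1, 23), (-1, 18), (-1, 25), (-1, 20)],
      [(-1, 7), (1, 23), (1, 22), (1, 7), (-1, 22), (-1, 23), (-1, 25)],
      [(-1, 8), (1, 2), (-1, 8), (-1, 15), (-1, 2), (-1, 26), (-1, 4), (-1, 6)],
      [(-1, 0), (1, 8), (1, 13), (1, 8), (1, 0), (1, 4), (1, 6)],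
      [(-1, 8), (1, 12), (1, 17), (1, 10), (1, 8), (1, 16), (1, 6), (-1, 10), (-1, 24), (-1, 12), (-1, 26), (-1, 21)],
      [(-1, 8), (1, 15), (1, 22), (1, 13), (1, 8), (1, 4), (1, 6), (-1, 13), (-1, 24), (-1, 15), (-1, 6), (-1, 4)],
      [(-1, 8), (1, 19), (1, 17), (1, 8), (-1, 17), (-1, 24), (-1, 19), (-1, 26), (-1, 21)],
      [(-1, 8), (1, 24), (1, 22), (1, 8), (-1, 22), (-1, 24), (-1, 26)],
      [(-1, 9), (1, 12), (1, 18), (1, 11), (1, 9), (1, 27), (-1, 11), (-1, 24), (-1, 12)],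
      [(-1, 9), (1, 15), (1, 23), (1, 14), (1, 9), (1, 6), (-1, 14), (-1, 24), (-1, 19), (-1, 15), (-1, 27), (-1, 6)],
      [(-1, 10), (1, 3), (1, 22), (-1, 10), (-1, 25), (-1, 3), (-1, 6)],
      [(-1, 10), (1, 16), (1, 22), (1, 13), (1, 10), (1, 26), (1, 6), (-1, 13), (-1, 25), (-1, 16), (-1, 6)],
      [(-1, 10), (1, 20), (1, 17), (1, 10), (1, 27), (1, 6), (-1, 17), (-1, 25), (-1, 20), (-1, 6)],
      [(-1, 12), (1, 3), (1, 24), (-1, 12), (-1, 20), (-1, 3), (-1, 27), (-1, 27), (-1, 5)],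
      [(1, 23), (1, 14), (1, 11), (1, 9), (1, 26), (1, 27), (1, 6), (-1, 27), (1, 30), (1, 28), (-1, 28), (-1, 30), (-1, 33), (-1, 11)],
      [(1, 11), (1, 9), (1, 1), (-1, 1), (-1, 27), (-1, 5), (1, 31), (1, 28), (-1, 28), (-1, 31), (-1, 32), (-1, 33), (-1, 14)],
      [(1, 24), (1, 15), (1, 12), (1, 2), (1, 21), (1, 6), (-1, 24), (-1, 2), (-1, 25), (-1, 26), (-1, 6), (1, 30), (1, 29), (-1, 29), (-1, 30), (-1, 32), (-1, 12)],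
      [(1, 12), (1, 2), (-1, 23), (-1, 9), (-1, 24), (-1, 2), (-1, 25), (-1, 27), (1, 31), (1, 29), (-1, 29), (-1, 31), (-1, 33), (-1, 15)],
      [(-1, 24), (-1, 26), (1, 35), (1, 34), (-1, 34), (-1, 35), (-1, 14), (-1, 9), (-1, 25), (-1, 20), (-1, 16), (-1, 27), (-1, 6), (1, 12), (1, 21)]]
  lam := [[], [], [], [(-1, 7)], [(-1, 8)], [(-1, 12)], [(-1, 17)]]
  gen := []
  b := 1
  m := 1
  genC := []
  targets := [(3, 0, [(1, 0), (2, 1), (-3, 2), (-1, 3), (2, 5), (2, 6), (-1, 9), (-1, 11), (1, 12), (1, 15), (-3, 17), (-1, 18), (1, 20), (-1, 21), (-1, 22), (2, 23)]),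
      (4, 0, [(2, 0), (2, 1), (-5, 2), (-5, 3), (1, 4), (4, 5), (4, 6), (-1, 7), (-2, 9), (2, 10), (-3, 11), (6, 12), (1, 15), (1, 16), (-6, 17), (-2, 18), (-1, 19), (2, 20), (-2, 21), (-1, 22), (2, 23)]),
      (5, 0, [(-1, 3), (1, 5), (-1, 6), (-1, 10), (2, 12), (2, 16), (-2, 17), (-1, 18)]),
      (6, 0, [(-2, 0), (-2, 1), (6, 2), (2, 3), (-4, 5), (-4, 6), (2, 9), (2, 11), (-3, 12), (-1, 15), (-1, 16), (6, 17), (2, 18), (-2, 20), (2, 21), (2, 22), (-4, 23)]),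
      (7, 0, []),
      (8, 0, []),
      (9, 0, [(-2, 0), (-2, 1), (7, 2), (2, 3), (-1, 4), (-3, 5), (-5, 6), (1, 9), (1, 10), (3, 11), (-2, 12), (-1, 15), (-1, 16), (6, 17), (2, 18), (-2, 20), (2, 21), (2, 22), (-5, 23)]),
      (10, 0, [(1, 0), (1, 1), (-3, 2), (-1, 3), (2, 5), (2, 6), (-1, 9), (-1, 11), (2, 12), (1, 16), (-3, 17), (-1, 18), (1, 20), (-1, 21), (-1, 22), (2, 23)]),
      (11, 0, [(-3, 2), (-1, 3), (2, 5), (3, 6), (-1, 9), (-1, 11), (2, 12), (1, 16), (-3, 17), (-1, 18), (1, 20), (-1, 21), (-1, 22), (2, 23)]),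
      (12, 0, []),
      (13, 0, [(-1, 2), (3, 3), (-1, 4), (1, 7), (1, 8), (-2, 10), (1, 11), (-3, 12), (1, 19), (-1, 22), (2, 23)]),
      (14, 0, [(-1, 2), (-1, 3), (1, 5), (1, 6), (-1, 9), (1, 10), (1, 12), (-1, 17)]),
      (15, 0, [(-1, 2), (3, 3), (-1, 4), (-2, 10), (1, 11), (-2, 12), (1, 19), (-1, 22), (2, 23)]),
      (16, 0, [(2, 0), (2, 1), (-6, 2), (-2, 3), (4, 5), (4, 6), (-1, 9), (-3, 11), (3, 12), (1, 15), (1, 16), (-6, 17), (-2, 18), (2, 20), (-2, 21), (-2, 22), (4, 23)]),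
      (17, 0, []),
      (18, 0, [(2, 0), (2, 1), (-6, 2), (-2, 3), (1, 4), (3, 5), (6, 6), (-1, 9), (-1, 10), (-3, 11), (3, 12), (1, 13), (1, 15), (1, 16), (-7, 17), (-2, 18), (2, 20), (-2, 21), (-2, 22), (4, 23)]),
      (19, 0, [(-1, 3), (1, 6), (1, 10), (-1, 14), (-1, 17)]),
      (20, 0, [(-2, 0), (-2, 1), (6, 2), (3, 3), (-1, 4), (-4, 5), (-4, 6), (1, 9), (3, 11), (-3, 12), (-1, 15), (-1, 16), (6, 17), (2, 18), (-2, 20), (2, 21), (2, 22), (-4, 23)]),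
      (21, 0, [(-2, 0), (-2, 1), (6, 2), (2, 3), (-1, 4), (-3, 5), (-5, 6), (1, 9), (1, 10), (2, 11), (-2, 12), (-1, 15), (-1, 16), (6, 17), (2, 18), (-2, 20), (2, 21), (2, 22), (-4, 23)]),
      (22, 0, [(2, 0), (2, 1), (-6, 2), (-2, 3), (1, 4), (3, 5), (5, 6), (-1, 9), (-3, 11), (3, 12), (1, 15), (1, 16), (-6, 17), (-2, 18), (2, 20), (-2, 21), (-2, 22), (4, 23)]),
      (23, 0, [(2, 0), (2, 1), (-6, 2), (-3, 3), (1, 4), (3, 5), (5, 6), (-1, 9), (-3, 11), (3, 12), (1, 15), (1, 16), (-6, 17), (-2, 18), (2, 20), (-2, 21), (-2, 22), (4, 23)]),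
      (24, 0, [(2, 0), (2, 1), (-6, 2), (-2, 3), (1, 4), (3, 5), (5, 6), (-1, 9), (-1, 10), (-3, 11), (3, 12), (1, 15), (1, 16), (-6, 17), (-2, 18), (2, 20), (-2, 21), (-2, 22), (4, 23)]),
      (25, 0, [(-1, 6)]),
      (26, 0, [(-1, 12)]),
      (27, 0, [(-1, 6), (1, 17)])]

/-- Words for the generators of the Sylow 3-subgroup. -/
def kw3 : List (List ℕ) :=
  [[3, 2, 1, 3, 1, 0, 1, 2, 1, 2, 3, 1, 0, 1, 0, 3, 1, 3],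
    [2, 0, 3, 1, 3, 1, 0, 1, 0, 2, 1, 0, 1, 2, 1, 0, 1],
    [1, 3, 1, 0, 1, 3, 0, 1, 0, 1, 2, 1, 3, 1, 0, 1, 0, 1, 2, 1, 0, 1, 2, 1, 0],
    [3, 1, 0, 1, 3, 1, 0, 1, 0, 1, 0, 2, 1, 3, 1, 0, 1, 0, 2, 1, 0, 1, 2, 1],
    [1, 0, 1, 2, 1, 0, 1, 3, 2, 1, 0, 2, 3, 1, 3, 1, 0, 1, 0, 1, 0, 3, 1, 0]]

/-- Words for the fusing elements. -/
def gw3 : List (List ℕ) :=
  []

/-- The elements of the subgroup as words. -/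
def words3 : List (List ℕ) :=
  [[],
    [3, 3, 4, 4],
    [1, 3, 3],
    [0, 1, 1, 2, 2, 4, 4],
    [0, 0, 1, 1, 2, 3],
    [0, 1, 1, 2, 3, 4],
    [0, 0, 1, 3, 3],
    [0, 0, 1, 1, 2, 2, 3, 4],
    [0, 1, 1],
    [0, 1, 2, 2, 3],
    [2, 2, 3, 3, 4, 4],
    [0, 0, 1, 1, 3, 3, 4],
    [1, 1, 3, 3],
    [1, 1, 2, 2, 4, 4],
    [1, 2, 4, 4],
    [0, 0, 2, 2, 3, 3, 4, 4],
    [0, 3, 4, 4],
    [0, 1, 1, 2, 3, 4, 4],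
    [0, 0, 1, 2, 2, 3, 3, 4],
    [1, 1, 2, 4],
    [0, 0, 1, 1, 2, 2, 3, 3],
    [0, 0, 1, 1, 3],
    [0, 1, 1, 3, 3, 4],
    [1, 2, 4],
    [0, 1, 1, 2, 4, 4],
    [1, 3, 4, 4],
    [2, 2, 3, 4],
    [0, 2, 4, 4],
    [1, 1, 2, 2, 3, 4, 4],
    [0, 0, 1, 3, 4],
    [0, 0, 1, 1, 4, 4],
    [0, 0, 1, 1],
    [1, 2, 2],
    [0, 0, 1, 3],
    [0, 0, 1, 1, 2, 2, 3, 4, 4],
    [1, 1, 2, 3, 3, 4],
    [0, 0, 1, 2, 2],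
    [1, 1, 2, 3, 3],
    [0, 0, 2, 2],
    [0, 2, 2],
    [0, 0, 1, 2, 3, 3, 4],
    [1, 1, 2, 3, 4, 4],
    [0, 1, 1, 2, 2, 3, 4, 4],
    [1, 2, 3, 4, 4],
    [0, 0, 1, 1, 2, 2],
    [0, 0, 1, 1, 4],
    [0, 2, 2, 3, 3, 4],
    [0, 1, 2, 4],
    [1, 1, 3, 3, 4, 4],
    [0, 0, 1, 2, 3, 4, 4],
    [1, 3, 3, 4],
    [1, 1, 2, 4, 4],
    [0, 0, 1, 2, 3, 4],
    [1, 1, 3, 4, 4],
    [0, 0, 1, 1, 3, 4, 4],
    [3, 3, 4],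
    [0, 0, 1, 1, 2, 3, 3, 4],
    [0, 1, 1, 2, 3],
    [0, 0, 1, 1, 2, 3, 4, 4],
    [0, 2, 2, 4, 4],
    [0, 1, 1, 4, 4],
    [0, 0, 1, 1, 2, 2, 4],
    [0, 0, 2, 4, 4],
    [1, 1, 2, 2, 3, 3, 4, 4],
    [0, 0, 1, 1, 3, 3],
    [0, 3, 3, 4, 4],
    [0, 0, 1, 3, 3, 4],
    [0, 1, 1, 2],
    [1, 2, 3],
    [0, 2, 3, 4, 4],
    [0, 0, 2, 4],
    [2, 3, 4, 4],
    [0, 1, 3, 3, 4, 4],
    [1, 2],
    [0, 2, 3, 3],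
    [0, 0, 1, 2, 2, 3, 4],
    [0, 1, 2, 3, 4],
    [0, 1, 2],
    [1, 2, 2, 3],
    [0, 2, 2, 3],
    [0, 1, 4, 4],
    [0, 0, 1, 2],
    [0, 2, 3, 4],
    [0, 0, 1, 2, 2, 4, 4],
    [1, 1, 4, 4],
    [1, 2, 2, 3, 4],
    [1, 2, 3, 4],
    [0, 0],
    [0, 0, 1, 2, 3, 3],
    [0, 0, 2, 3, 3, 4],
    [2, 3, 3],
    [0, 0, 1, 3, 4, 4],
    [1, 1, 2, 2],
    [0, 0, 1, 2, 3, 3, 4, 4],
    [0, 1, 2, 2, 3, 3],
    [0, 0, 2, 3, 3],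
    [2, 2, 4, 4],
    [0, 1, 2, 3, 3, 4, 4],
    [0, 1, 3, 4],
    [0, 2, 4],
    [0, 1, 3],
    [0, 0, 1, 1, 2, 2, 3, 3, 4, 4],
    [0, 0, 1, 1, 2, 4, 4],
    [0],
    [0, 0, 1, 2, 3],
    [0, 1, 1, 2, 4],
    [0, 2, 2, 3, 3, 4, 4],
    [0, 1, 1, 2, 2, 3, 3],
    [0, 2, 2, 3, 4],
    [0, 0, 3, 4, 4],
    [0, 0, 2, 3, 4],
    [1, 3],
    [1, 1, 3, 3, 4],
    [1, 2, 2, 3, 4, 4],
    [2, 3],
    [2, 2],
    [0, 1, 1, 3, 3, 4, 4],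
    [2, 3, 4],
    [0, 1, 2, 3, 4, 4],
    [3, 4],
    [1, 3, 4],
    [0, 0, 1, 2, 2, 4],
    [0, 0, 1, 2, 4],
    [0, 3, 4],
    [2],
    [0, 1, 1, 4],
    [3, 4, 4],
    [1, 2, 2, 4],
    [1, 2, 2, 3, 3, 4],
    [0, 4],
    [2, 2, 3, 4, 4],
    [0, 1, 2, 2, 3, 4],
    [0, 0, 3, 3, 4, 4],
    [0, 2, 2, 3, 4, 4],
    [1, 2, 3, 3, 4],
    [1, 1, 2, 3, 4],
    [0, 1, 2, 2, 3, 4, 4],
    [0, 0, 2],
    [2, 2, 3],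
    [0, 1, 2, 2, 4],
    [2, 2, 4],
    [1, 4],
    [0, 0, 3, 3, 4],
    [1],
    [0, 1, 3, 4, 4],
    [0, 0, 1, 1, 3, 3, 4, 4],
    [3],
    [1, 3, 3, 4, 4],
    [1, 2, 2, 3, 3, 4, 4],
    [4, 4],
    [0, 0, 1, 1, 2, 2, 3, 3, 4],
    [0, 0, 2, 3, 3, 4, 4],
    [0, 1, 1, 2, 3, 3],
    [1, 1, 2, 3],
    [0, 0, 4],
    [0, 1, 1, 2, 2, 3, 3, 4, 4],
    [0, 2, 3],
    [0, 1, 2, 2, 3, 3, 4],
    [1, 2, 2, 4, 4],
    [0, 1, 3, 3, 4],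
    [0, 0, 1, 1, 2, 3, 3],
    [0, 2, 2, 3, 3],
    [0, 0, 2, 2, 3, 3, 4],
    [0, 1, 1, 3, 4, 4],
    [1, 1, 3],
    [1, 1, 2, 2, 3, 3, 4],
    [0, 0, 1, 2, 2, 3, 3],
    [0, 0, 1, 1, 3, 4],
    [0, 0, 2, 2, 3, 4],
    [1, 1, 2, 2, 3, 4],
    [0, 0, 3, 4],
    [0, 0, 3],
    [0, 0, 4, 4],
    [0, 1, 2, 2, 4, 4],
    [0, 0, 2, 2, 3],
    [0, 0, 2, 3],
    [2, 4, 4],
    [1, 1, 2, 2, 3],
    [1, 1, 2],
    [0, 1, 1, 2, 3, 3, 4],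
    [1, 2, 3, 3, 4, 4],
    [0, 1, 1, 3],
    [0, 0, 1],
    [0, 1, 1, 3, 3],
    [1, 1, 2, 2, 4],
    [0, 1, 2, 4, 4],
    [0, 0, 1, 1, 2],
    [0, 2, 2, 4],
    [0, 0, 1, 2, 4, 4],
    [0, 2, 3, 3, 4],
    [1, 1, 3, 4],
    [0, 2, 3, 3, 4, 4],
    [0, 0, 1, 1, 2, 2, 4, 4],
    [1, 2, 3, 3],
    [0, 0, 1, 3, 3, 4, 4],
    [0, 0, 1, 4],
    [0, 3, 3],
    [0, 0, 3, 3],
    [0, 3, 3, 4],
    [0, 1, 1, 2, 2],
    [0, 0, 1, 1, 2, 4],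
    [0, 1],
    [2, 3, 3, 4, 4],
    [1, 4, 4],
    [0, 4, 4],
    [4],
    [2, 2, 3, 3, 4],
    [0, 0, 1, 1, 2, 2, 3],
    [2, 3, 3, 4],
    [0, 3],
    [1, 2, 2, 3, 3],
    [3, 3],
    [0, 1, 1, 2, 2, 4],
    [0, 1, 1, 2, 2, 3, 4],
    [0, 2],
    [1, 1],
    [0, 0, 2, 2, 3, 4, 4],
    [2, 4],
    [0, 1, 4],
    [1, 1, 4],
    [0, 1, 3, 3],
    [0, 1, 1, 2, 2, 3, 3, 4],
    [0, 1, 2, 3, 3],
    [1, 1, 2, 2, 3, 3],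
    [0, 1, 2, 2],
    [0, 0, 1, 2, 2, 3, 4, 4],
    [0, 1, 1, 2, 2, 3],
    [0, 0, 2, 2, 3, 3],
    [0, 0, 2, 3, 4, 4],
    [0, 1, 2, 3],
    [0, 1, 1, 3, 4],
    [0, 0, 1, 2, 2, 3],
    [0, 0, 2, 2, 4],
    [0, 1, 2, 2, 3, 3, 4, 4],
    [1, 1, 2, 3, 3, 4, 4],
    [0, 0, 1, 1, 2, 3, 3, 4, 4],
    [2, 2, 3, 3],
    [0, 0, 2, 2, 4, 4],
    [0, 0, 1, 1, 2, 3, 4],
    [0, 0, 1, 2, 2, 3, 3, 4, 4],
    [0, 0, 1, 4, 4],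
    [0, 1, 2, 3, 3, 4],
    [0, 1, 1, 2, 3, 3, 4, 4]]

/-- The elements of the inner subgroup as words. -/
def inner3 : List (List ℕ) :=
  [[],
    [3, 3, 4, 4],
    [2, 2, 3, 3, 4, 4],
    [2, 2, 3, 4],
    [3, 3, 4],
    [2, 3, 4, 4],
    [2, 3, 3],
    [2, 2, 4, 4],
    [2, 3],
    [2, 2],
    [2, 3, 4],
    [3, 4],
    [2],
    [3, 4, 4],
    [2, 2, 3, 4, 4],
    [2, 2, 3],
    [2, 2, 4],
    [3],
    [4, 4],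
    [2, 4, 4],
    [2, 3, 3, 4, 4],
    [4],
    [2, 2, 3, 3, 4],
    [2, 3, 3, 4],
    [3, 3],
    [2, 4],
    [2, 2, 3, 3]]

/-- The certificate at 3. -/
def cert3 : CfsgLib.Schur.Tails.Cert where
  r := 5
  a := 2
  p := 3
  fuel := 97
  width := 1
  rules := [([0, 0, 0], [3, 3, 4, 4]),
      ([1, 1, 1], [3, 4, 4]),
      ([2, 2, 2], []),
      ([3, 3, 3], []),
      ([4, 4, 4], []),
      ([1, 0], [0, 1, 2]),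
      ([2, 0], [0, 2, 3]),
      ([2, 1], [1, 2, 4]),
      ([3, 0], [0, 3]),
      ([3, 1], [1, 3]),
      ([3, 2], [2, 3]),
      ([4, 0], [0, 4]),
      ([4, 1], [1, 4]),
      ([4, 2], [2, 4]),
      ([4, 3], [3, 4])]
  ix := [[0, 0, 0, 0, 0], [5, 1, 0, 0, 0], [6, 7, 2, 0, 0], [8, 9, 10, 3, 0], [11, 12, 13, 14, 4]]
  ovl := [([0], 0, []),
      ([1], 1, []),
      ([1, 1], 5, []),
      ([1], 0, []),
      ([2], 5, []),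
      ([3], 5, []),
      ([4], 5, []),
      ([2, 2], 6, []),
      ([2], 0, []),
      ([4], 6, [])]
  fus := []
  eqs := [[(-1, 0), (1, 0), (1, 11), (1, 11), (1, 8), (1, 8)],
      [(-1, 1), (1, 1), (1, 12), (1, 12), (1, 9)],
      [(-1, 5), (1, 1), (1, 11), (1, 11), (1, 8), (-1, 5), (-1, 5), (-1, 7), (-1, 13), (-1, 12), (-1, 7), (-1, 7), (-1, 1), (-1, 13), (-1, 13), (-1, 10), (-1, 4), (-1, 10), (-1, 13), (-1, 13), (-1, 10), (-1, 2)],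
      [(-1, 0), (1, 5), (1, 6), (1, 5), (1, 8), (1, 6), (1, 6), (1, 5), (1, 0), (1, 12), (1, 12), (1, 9), (1, 9), (1, 13), (1, 13), (1, 10), (1, 10), (1, 13), (1, 13), (1, 10), (1, 10), (1, 14), (1, 14), (1, 3), (1, 13), (1, 13), (1, 2), (1, 14), (1, 14), (1, 14), (1, 14)],
      [(-1, 5), (1, 7), (1, 11), (1, 6), (1, 5), (-1, 6), (-1, 9), (-1, 7), (-1, 14), (-1, 13), (-1, 10)],
      [(-1, 5), (1, 9), (1, 8), (1, 5), (-1, 8), (-1, 9), (-1, 10)],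
      [(-1, 5), (1, 12), (1, 11), (1, 5), (-1, 11), (-1, 12), (-1, 13)],
      [(-1, 6), (1, 2), (-1, 6), (-1, 6), (-1, 10), (-1, 10), (-1, 10), (-1, 2), (-1, 3)],
      [(-1, 0), (1, 6), (1, 8), (1, 6), (1, 8), (1, 8), (1, 6), (1, 0), (1, 13), (1, 13), (1, 10), (1, 10), (1, 14), (1, 14), (1, 3), (1, 14), (1, 14), (1, 14), (1, 14)],
      [(-1, 6), (1, 13), (1, 11), (1, 6), (-1, 11), (-1, 13), (-1, 14)]]
  lam := [[], [], [(-1, 5)], [(-1, 6)], [(-1, 7)]]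
  gen := [(1, 8), (-1, 6), (1, 6)]
  b := 3
  m := 4
  genC := [(-4, 5), (8, 6), (4, 7), (4, 8), (24, 9)]
  targets := [(2, 0, [(-2, 0), (-4, 1), (4, 3), (4, 4), (20, 6), (4, 7), (20, 9)]),
      (3, 0, [(12, 5), (-4, 7)]),
      (4, 0, [(7, 0), (2, 1), (-4, 2), (-4, 3), (-6, 4), (16, 5), (-2, 6), (-6, 7), (-2, 8), (-30, 9)]),
      (5, 0, []),
      (6, 0, []),
      (7, 0, []),
      (8, 4, []),
      (9, 8, [(2, 0), (-4, 4), (8, 5), (-4, 6), (-4, 7), (-4, 8), (-20, 9)]),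
      (10, 0, [(-4, 5)]),
      (11, 8, [(2, 0), (4, 5), (-8, 6), (-4, 7), (-4, 8), (-24, 9)]),
      (12, 8, [(-1, 0), (2, 1), (2, 4), (-6, 6), (-2, 7), (-2, 8), (-14, 9)]),
      (13, 0, [(-4, 6)]),
      (14, 0, [(-4, 9)])]

/-- Words for elements of orders 5, 17 and 19. -/
def ordW : List (List ℕ) :=
  [[1, 3, 1, 3],
    [1, 3, 1, 0, 2, 1],
    [2, 3, 1, 0, 2, 1, 0, 2, 3, 1, 3, 1, 0, 2]]

end CfsgLib.Schur.Sporadic.JThree
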