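import Cfsg.Agent.Lib.Schur.JThree.Defs
import Cfsg.Agent.Lib.Schur.JThree.Data

/-!
# Kernel checks of the multiplier certificates of the third Janko group
-/

set_option autoImplicit false
set_option maxRecDepth 100000
set_option maxHeartbeats 0

namespace CfsgLib.Schur.Sporadic.JThree

theorem cert2_ok : certP kw2 gw2 cert2 = true ∧ cert2.p = 2 ∧ ¬ 2 ∣ cert2.m ∧ cert2.b = 1 := by
  decide +kernel

theorem all2_ok : wordsP kw2 words2 0 cert2.r = true ∧ words2.length = 2 ^ cert2.r ∧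
    wordsP kw2 inner2 cert2.a cert2.r = true ∧ inner2.length = 2 ^ (cert2.r - cert2.a) ∧
      ¬ 2 ^ (cert2.r + 1) ∣ 50232960 := by
  decide +kernel

theorem cert3_ok : certP kw3 gw3 cert3 = true ∧ cert3.p = 3 ∧ ¬ 3 ∣ cert3.m ∧ cert3.b = 3 := by
  decide +kernel

theorem all3_ok : wordsP kw3 words3 0 cert3.r = true ∧ words3.length = 3 ^ cert3.r ∧
    wordsP kw3 inner3 cert3.a cert3.r = true ∧ inner3.length = 3 ^ (cert3.r - cert3.a) ∧
      ¬ 3 ^ (cert3.r + 1) ∣ 50232960 := by
  decide +kernel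

theorem ord_ok : lettersOK ordW = true ∧ ordP (ordW.getD 0 []) 5 = true ∧
    ordP (ordW.getD 1 []) 17 = true ∧ ordP (ordW.getD 2 []) 19 = true := by
  decide +kernel

end CfsgLib.Schur.Sporadic.JThree
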