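import Cfsg.Agent.Lib.Schur.TailsPerm
import Cfsg.Agent.Lib.Sporadic.J3Data.J3Table

/-!
# Checking multiplier certificates of the third Janko group on four base points

An element is a word in the four involutions, in order of application; two elements are equal
when they agree at the four base points.
-/

set_option autoImplicit false

namespace CfsgLib.Schur.Sporadic.JThree

open CfsgLib.Sporadic.OutCert CfsgLib.Sporadic.CosetCert

/-- The image of a point under a word in the four involutions. -/
noncomputable def imgL (L : List ℕ) (u : ℕ) : ℕ :=
  List.rec (motive := fun _ => ℕ → ℕ) (fun v => v)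
    (fun x _ ih v => ih (Nat.mod (Nat.shiftRight (J3Data.flats.getD x 0) (Nat.mul v 13)) (Nat.pow 2 13)))
    L u

/-- The image of a point under a word in the listed elements. -/
noncomputable def imgW (kk : List (List ℕ)) (l : List ℕ) (u : ℕ) : ℕ :=
  List.rec (motive := fun _ => ℕ) u (fun i _ ih => imgL (kk.getD i []) ih) l

/-- The base points. -/
def pts : List ℕ := [0, 2, 1, 3]

/-- The images of the base points. -/
noncomputable def keyW (kk : List (List ℕ)) (l : List ℕ) : ℕ := pk 13 (pts.map fun u => imgW kk l u)

/-- All words use the four letters. -/
def lettersOK (kk : List (List ℕ)) : Bool := kk.all fun L => L.all fun x => Nat.blt x 4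

/-- The rules hold at the base points. -/
noncomputable def relP (kk : List (List ℕ)) (D : Tails.Cert) : Bool :=
  D.rules.all fun R => pts.all fun u => Nat.beq (imgW kk R.1 u) (imgW kk R.2 u)

/-- The fusions hold at the base points. -/
noncomputable def fusP (kk gk : List (List ℕ)) (D : Tails.Cert) : Bool :=
  (List.range D.fus.length).all fun j =>
    let F := D.fus.getD j ⟨[], [], []⟩
    (List.range F.us.length).all fun s => pts.all fun u =>
      Nat.beq (imgL (gk.getD j []) (imgW kk (F.us.getD s []) u))
        (imgW kk (F.vs.getD s []) (imgL (gk.getD j []) u))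

/-- Words with distinct values in the letters from `lo` on. -/
noncomputable def wordsP (kk : List (List ℕ)) (ws : List (List ℕ)) (lo hi : ℕ) : Bool :=
  decide (List.IsChain (· < ·) (ws.map (keyW kk))) && ws.all fun l => Tails.Cert.lettersIn l lo hi

/-- An element has order dividing `p` and is not the identity. -/
noncomputable def ordP (L : List ℕ) (p : ℕ) : Bool :=
  (pts.all fun u => Nat.beq (Nat.rec u (fun _ ih => imgL L ih) p) u) &&
    !(pts.all fun u => Nat.beq (imgL L u) u)

/-- All checks of a certificate at one prime. -/
noncomputable def certP (kk gk : List (List ℕ)) (D : Tails.Cert) : Bool :=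
  lettersOK kk && (lettersOK gk && (D.eqsOK && (D.combOK && (D.shapeOK && (relP kk D && fusP kk gk D)))))

end CfsgLib.Schur.Sporadic.JThree
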