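import Cfsg.Agent.Lib.Schur.JThree.Check
import Cfsg.Agent.Lib.Schur.TailsCombine
import Cfsg.Agent.Lib.Schur.TailsBound
import Cfsg.Agent.Lib.Schur.Basic
import Cfsg.Agent.Lib.Sporadic.J3Presented
import Cfsg.Agent.Lib.Sporadic.J3Group
import Cfsg.Agent.Lib.Sporadic.J3Field

/-!
# The multiplier of the third Janko group has order three

The upper bound comes from tail certificates at the primes 2 and 3 and from cyclic Sylow subgroups
at the others; the matrix group over the field with four elements is a stem extension with kernel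
of order three.
-/

set_option autoImplicit false
set_option maxRecDepth 100000

universe u

namespace CfsgLib.Schur.Sporadic.JThree

open CfsgLib.Sporadic.OutCert CfsgLib.Sporadic.CosetCert CfsgLib.Sporadic

/-- The element of a word. -/
noncomputable def el (L : List ℕ) : J3P.PG := appProd J3P.coding.gen L

attribute [local irreducible] J3Data.table

theorem img_el : ∀ (L : List ℕ), (L.all fun x => Nat.blt x 4) = true → ∀ v : Fin J3Data.table.N,
    imgL L v = (J3P.hom (el L) v : ℕ) := by
  intro L hL v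
  simp only [List.all_eq_true, Nat.blt_eq] at hL
  have hnl : J3Data.table.nl = 4 := by unfold J3Data.table; rfl
  have hwb : J3Data.table.wb = 13 := by unfold J3Data.table; rfl
  rw [el, J3P.hom_word L (fun x hx => hnl ▸ hL x hx) v]
  suffices h : ∀ (L : List ℕ), (∀ x ∈ L, x < 4) → ∀ v < J3Data.table.N,
      imgL L v = L.foldl (fun w x => J3Data.table.img x w) v from h L hL v v.2
  intro L
  induction L with
  | nil => intro _ v _; rfl
  | cons x t ih =>
    intro h v hv
    have hx := h x List.mem_cons_self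
    obtain ⟨e, hlt⟩ := J3Data.table_flat x (hnl ▸ hx) v hv
    rw [List.foldl_cons, ← ih (fun y hy => h y (List.mem_cons_of_mem _ hy)) _ hlt, e, hwb]
    rfl

theorem getD_ok {kk : List (List ℕ)} (h : lettersOK kk = true) (i : ℕ) :
    ((kk.getD i []).all fun x => Nat.blt x 4) = true := by
  by_cases hi : i < kk.length
  · rw [List.getD_eq_getElem _ _ hi]
    exact List.all_eq_true.1 h _ (List.getElem_mem hi)
  · rw [List.getD_eq_default _ _ (not_lt.1 hi)]
    rfl

/-- The listed elements. -/
noncomputable def els (kk : List (List ℕ)) (i : ℕ) : J3P.PG := el (kk.getD i [])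

theorem img_val {kk : List (List ℕ)} (h : lettersOK kk = true) :
    ∀ (l : List ℕ) (v : Fin J3Data.table.N),
      imgW kk l v = (J3P.hom (Tails.valW (els kk) l) v : ℕ) := by
  intro l v
  induction l with
  | nil => simp [imgW]
  | cons i l ih =>
    rw [Tails.valW_cons, map_mul, Equiv.Perm.mul_apply]
    show imgL (kk.getD i []) (imgW kk l v) = _
    rw [ih, img_el _ (getD_ok h i) (J3P.hom (Tails.valW (els kk) l) v)]
    rfl

theorem pts_lt : ∀ u ∈ pts, u < J3Data.table.N := by
  rw [J3P.table_N]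
  decide

theorem eq_of_pts {a b : J3P.PG}
    (h : ∀ v : Fin J3Data.table.N, (v : ℕ) ∈ pts → J3P.hom a v = J3P.hom b v) : a = b := by
  refine (inv_mul_eq_one.1 (J3P.eq_one_of_fix (b⁻¹ * a) fun v hv => ?_)).symm
  rw [map_mul, map_inv, Equiv.Perm.mul_apply, h v (by simpa [pts] using hv), Equiv.Perm.inv_def,
    Equiv.symm_apply_apply]

theorem card_tail_ge {kk : List (List ℕ)} (hk : lettersOK kk = true) {ws : List (List ℕ)} {lo hi : ℕ}
    (h : wordsP kk ws lo hi = true) : ws.length ≤ Nat.card (Tails.tailGen (els kk) hi lo) := by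
  haveI := J3P.finite
  simp only [wordsP, Bool.and_eq_true, decide_eq_true_eq, List.all_eq_true,
    Tails.lettersIn_iff] at h
  obtain ⟨hchain, hl⟩ := h
  let f : Fin ws.length → Tails.tailGen (els kk) hi lo := fun i =>
    ⟨Tails.valW (els kk) ws[i], Tails.valW_mem_tailGen (hl _ (List.getElem_mem i.2))⟩
  have hinj : Function.Injective f := by
    intro i j e
    have h1 : keyW kk ws[i] = keyW kk ws[j] := by
      refine congrArg (pk 13) (List.map_congr_left fun v hv => ?_)
      have h2 := congrArg Subtype.val e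
      rw [img_val hk _ ⟨v, pts_lt v hv⟩, img_val hk _ ⟨v, pts_lt v hv⟩]
      exact congrArg (fun q => (J3P.hom q ⟨v, pts_lt v hv⟩ : ℕ)) h2
    have hnd : (ws.map (keyW kk)).Nodup :=
      ((List.isChain_iff_pairwise).1 hchain).imp fun h => ne_of_lt h
    exact Fin.ext ((List.Nodup.getElem_inj_iff hnd (hi := by simpa using i.2) (hj := by simpa using j.2)).1
      (show (ws.map (keyW kk))[(i : ℕ)] = (ws.map (keyW kk))[(j : ℕ)] by
        rw [List.getElem_map, List.getElem_map]; exact h1))
  simpa using Nat.card_le_card_of_injective f hinj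

theorem bound_at {D : Tails.Cert} {kk gk ws wi : List (List ℕ)} {p : ℕ} [Fact p.Prime]
    (hc : certP kk gk D = true) (hDp : D.p = p) (hm : ¬ p ∣ D.m)
    (hw : wordsP kk ws 0 D.r = true ∧ ws.length = p ^ D.r ∧ wordsP kk wi D.a D.r = true ∧
      wi.length = p ^ (D.r - D.a) ∧ ¬ p ^ (D.r + 1) ∣ 50232960)
    (Γ : Type u) [Group Γ] [Finite Γ] (σ : Γ →* J3P.PG) (hσ : Cfsg.IsStemExtension σ) :
    (Nat.card σ.ker).factorization p ≤ D.b.factorization p := by
  haveI := J3P.finite
  simp only [certP, Bool.and_eq_true] at hc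
  obtain ⟨hk, hg, he, hco, hs, hr, hf⟩ := hc
  obtain ⟨ha, hal, hi, hil, hQ⟩ := hw
  refine Tails.factorization_card_ker_le D he hco hs hDp hm (els kk) ?_ (els gk) ?_ ?_ ?_
    (by rwa [J3P.card_eq.1]) Γ σ hσ
  · intro R hR
    refine eq_of_pts fun v hv => Fin.ext ?_
    simp only [relP, List.all_eq_true, Nat.beq_eq] at hr
    rw [← img_val hk, ← img_val hk]
    exact hr R hR _ hv
  · intro j hj s hs'
    refine eq_of_pts fun v hv => Fin.ext ?_
    simp only [fusP, List.all_eq_true, List.mem_range, Nat.beq_eq] at hf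
    have e := hf j hj s hs' _ hv
    rw [img_val hk _ v, img_el _ (getD_ok hg j), img_el _ (getD_ok hg j) v, img_val hk] at e
    rw [map_mul, map_mul, Equiv.Perm.mul_apply, Equiv.Perm.mul_apply]
    exact e
  · rw [← hal]; exact card_tail_ge hk ha
  · rw [← hil]; exact card_tail_ge hk hi

theorem exists_order {L : List ℕ} (hL : (L.all fun x => Nat.blt x 4) = true) {p : ℕ} [Fact p.Prime]
    (h : ordP L p = true) : ∃ q : J3P.PG, orderOf q = p := by
  simp only [ordP, Bool.and_eq_true, Bool.not_eq_true', List.all_eq_true, Nat.beq_eq] at h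
  refine ⟨el L, orderOf_eq_prime (eq_of_pts fun v hv => Fin.ext ?_) fun e => ?_⟩
  · have hpow : ∀ n : ℕ, Nat.rec (motive := fun _ => ℕ) (v : ℕ) (fun _ ih => imgL L ih) n =
        (J3P.hom (el L ^ n) v : ℕ) := by
      intro n
      induction n with
      | zero => simp
      | succ n ih =>
        show imgL L _ = _
        rw [ih, img_el L hL, pow_succ', map_mul, Equiv.Perm.mul_apply]
    rw [← hpow, h.1 _ hv]
    simp
  · refine absurd ?_ (Bool.not_eq_true _ ▸ h.2)
    simp only [List.all_eq_true, Nat.beq_eq]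
    intro u hu
    rw [img_el L hL ⟨u, pts_lt u hu⟩, e]
    simp

theorem card_ker_le_pg (Γ : Type u) [Group Γ] [Finite Γ] (σ : Γ →* J3P.PG)
    (hσ : Cfsg.IsStemExtension σ) : Nat.card σ.ker ≤ 3 := by
  haveI := J3P.finite
  refine Tails.card_ker_le σ hσ (by norm_num) fun p hp hd => ?_
  rw [J3P.card_eq.1] at hd
  have hp' : p = 2 ∨ p = 3 ∨ p = 5 ∨ p = 17 ∨ p = 19 := by
    have h1 : p ∣ 2 ^ 7 * 3 ^ 5 * 5 * 17 * 19 := hd
    have q : ∀ r : ℕ, r.Prime → p ∣ r → p = r := fun r hr h => (Nat.prime_dvd_prime_iff_eq hp hr).1 h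
    simp only [Nat.Prime.dvd_mul hp] at h1
    rcases h1 with (((h1 | h1) | h1) | h1) | h1
    · exact Or.inl (q 2 Nat.prime_two (hp.dvd_of_dvd_pow h1))
    · exact Or.inr (Or.inl (q 3 Nat.prime_three (hp.dvd_of_dvd_pow h1)))
    · exact Or.inr (Or.inr (Or.inl (q 5 Nat.prime_five h1)))
    · exact Or.inr (Or.inr (Or.inr (Or.inl (q 17 (by norm_num) h1))))
    · exact Or.inr (Or.inr (Or.inr (Or.inr (q 19 (by norm_num) h1))))
  haveI := Fact.mk hp
  obtain ⟨hl, h5, h17, h19⟩ := ord_ok
  have cyc : ∀ i : ℕ, ordP (ordW.getD i []) p = true → ¬ p ^ 2 ∣ 50232960 →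
      (Nat.card σ.ker).factorization p ≤ (3 : ℕ).factorization p := by
    intro i hi h2
    obtain ⟨q, hq⟩ := exists_order (getD_ok hl i) hi
    rw [Tails.factorization_card_ker_of_orderOf σ hσ q (k := 1) (by rw [hq, pow_one])
      (by rwa [J3P.card_eq.1])]
    exact Nat.zero_le _
  rcases hp' with rfl | rfl | rfl | rfl | rfl
  · obtain ⟨hc, hDp, hm, hb⟩ := cert2_ok
    have := bound_at hc hDp hm all2_ok Γ σ hσ
    rw [hb] at this
    exact this.trans (by simp)
  · obtain ⟨hc, hDp, hm, hb⟩ := cert3_ok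
    have := bound_at hc hDp hm all3_ok Γ σ hσ
    rwa [hb] at this
  · exact cyc 0 h5 (by norm_num)
  · exact cyc 1 h17 (by norm_num)
  · exact cyc 2 h19 (by norm_num)

open Matrix Cfsg.Spor CfsgLib.Sporadic.G2Four CfsgLib.Sporadic.J3Mat
open scoped commutatorElement

theorem card_ker_le (Γ : Type) [Group Γ] [Finite Γ] (σ : Γ →* Q3) (hσ : Cfsg.IsStemExtension σ) :
    Nat.card σ.ker ≤ 3 := by
  let τ : Γ →* J3P.PG := equivPG.symm.toMonoidHom.comp σ
  have hker : τ.ker = σ.ker := by ext x; simp [τ]
  rw [← hker]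
  refine card_ker_le_pg Γ τ ⟨equivPG.symm.surjective.comp hσ.1, ?_, ?_⟩
  · rw [hker]; exact hσ.2.1
  · rw [hker]; exact hσ.2.2

theorem exists_scalar_word :
    ∃ L : List ℕ, (∀ a ∈ L, a < 4) ∧ ∃ k, k < 4 ∧ 0 < k ∧ evalJ invCodes L = smulJ k oneJ ∧
      kUnit k ≠ 1 := by
  have h : ∃ r ∈ relList J3P.edges J3P.extra J3P.coding.pairs, ∃ k ∈ [2, 3],
      evalJ invCodes (appWord J3P.code J3P.code r) = smulJ k oneJ := by
    decide +kernel
  obtain ⟨r, hr, k, hk, hev⟩ := h
  obtain ⟨h1, -⟩ := rels_scalar r hr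
  simp only [List.all_eq_true, decide_eq_true_eq] at h1
  have hne : ∀ k ∈ [2, 3], k < 4 ∧ 0 < k ∧ ofN k ≠ (1 : FieldFour) := by decide
  obtain ⟨hk4, hk0, hk1⟩ := hne k hk
  exact ⟨_, h1, k, hk4, hk0, hev, fun e => hk1 (by rw [← kUnit_val hk4 hk0, e, Units.val_one])⟩

theorem center_le_commutator : Subgroup.center T3 ≤ commutator T3 := by
  have hinv : ∀ i, xEl i ∈ commutator T3 := by
    intro i
    let K : Subgroup T3 := commutator T3
    have hsup : K ⊔ Subgroup.center T3 = ⊤ := by
      have := q3_simple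
      let π := QuotientGroup.mk' (Subgroup.center T3)
      have hperf : commutator Q3 = ⊤ := by
        refine ((IsSimpleGroup.eq_bot_or_eq_top_of_normal (commutator Q3) inferInstance).resolve_left ?_)
        intro h
        have hc : ∀ a b : Q3, a * b = b * a := fun a b => by
          have hm : ⁅a, b⁆ ∈ commutator Q3 := Subgroup.commutator_mem_commutator
            (Subgroup.mem_top _) (Subgroup.mem_top _)
          rwa [h, Subgroup.mem_bot, commutatorElement_eq_one_iff_mul_comm] at hm
        letI : CommGroup Q3 := { (inferInstance : Group Q3) with mul_comm := hc }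
        have hprime : (Nat.card Q3).Prime := IsSimpleGroup.prime_card
        rw [q3_card] at hprime
        revert hprime
        norm_num
      have hmap : K.map π = ⊤ := by
        rw [← hperf]
        show (commutator T3).map π = _
        rw [commutator_def, commutator_def, Subgroup.map_commutator, ← MonoidHom.range_eq_map,
          MonoidHom.range_eq_top.mpr (QuotientGroup.mk'_surjective _)]
      rw [← QuotientGroup.ker_mk' (Subgroup.center T3), ← Subgroup.comap_map_eq, hmap,
        Subgroup.comap_top]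
    have hdvd : K.index ∣ 3 := by
      have h2 : K.index = K.relIndex (Subgroup.center T3) := by
        rw [← Subgroup.relIndex_top_right, ← hsup, Subgroup.relIndex_sup_left]
      rw [h2]
      calc K.relIndex (Subgroup.center T3) ∣ Nat.card (Subgroup.center T3) :=
            Subgroup.index_dvd_card _
        _ = 3 := center_card
    have hsq : xEl i * xEl i = 1 := Subtype.ext (Units.ext (xCode_sq i))
    have h3 : (xEl i) ^ K.index ∈ K := by
      haveI : K.FiniteIndex := ⟨fun h => by simp [h] at hdvd⟩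
      exact Subgroup.pow_index_mem K _
    rcases (Nat.dvd_prime Nat.prime_three).1 hdvd with h | h
    · rw [Subgroup.index_eq_one] at h
      show xEl i ∈ K
      rw [h]
      exact Subgroup.mem_top _
    · rw [h, pow_succ, pow_two, hsq, one_mul] at h3
      exact h3
  intro z hz
  obtain ⟨c, rfl⟩ := center_scalar z hz
  obtain ⟨L, hL, k, hk, h0, hev, hne⟩ := exists_scalar_word
  have e : appProd xEl L = scalEl (kUnit k) := by
    apply Subtype.ext
    show (T3.subtype (appProd xEl L)) = scalU (kUnit k)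
    rw [appProd_hom]
    apply Units.ext
    show ((appProd xUnit L : GL F9 FieldFour) : MatJ) = _
    rw [← toMatJ_evalJ invCodes xUnit L fun a ha => xUnit_val (hL a ha), hev, toMatJ_smulJ hk,
      toMatJ_oneJ, scalU_val, kUnit_val hk h0]
  have hmem : scalEl (kUnit k) ∈ commutator T3 := e ▸ appProd_mem _ _ _ fun a _ => hinv a
  have hc3 : Nat.card FieldFourˣ = 3 := by rw [Nat.card_eq_fintype_card]; decide
  haveI : Fact (Nat.Prime 3) := ⟨Nat.prime_three⟩
  obtain ⟨n, rfl⟩ := (Subgroup.mem_zpowers_iff).1 (mem_zpowers_of_prime_card hc3 hne (g' := c))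
  rw [map_zpow]
  exact zpow_mem hmem n

theorem isStem : Cfsg.IsStemExtension (QuotientGroup.mk' (Subgroup.center T3)) := by
  refine ⟨QuotientGroup.mk'_surjective _, ?_, ?_⟩
  · rw [QuotientGroup.ker_mk']
  · rw [QuotientGroup.ker_mk']
    exact center_le_commutator

theorem hasMultiplier : Cfsg.HasCyclicSchurMultiplier Q3 3 := by
  haveI : Finite Q3 := Nat.finite_of_card_ne_zero (by rw [q3_card]; norm_num)
  haveI : Fact (Nat.Prime 3) := ⟨Nat.prime_three⟩
  have hker : Nat.card (QuotientGroup.mk' (Subgroup.center T3)).ker = 3 := by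
    rw [QuotientGroup.ker_mk', center_card]
  haveI : IsCyclic (QuotientGroup.mk' (Subgroup.center T3)).ker := isCyclic_of_prime_card hker
  refine Basic.hasSchurMultiplier_of_le _ isStem
    (mulEquivOfCyclicCardEq (by rw [hker]; simp)) fun Γ _ _ σ hσ => ?_
  rw [show Nat.card (Multiplicative (ZMod 3)) = 3 by simp]
  exact card_ker_le Γ σ hσ

end CfsgLib.Schur.Sporadic.JThree
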